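import Groth.Agent.S5929
import Groth.Agent.FlatRes.FibreFree
import Mathlib

/-!
# Openness of the loci of bounded projective dimension of the fibre stalks
-/

set_option autoImplicit false
set_option linter.style.haveILetI false
set_option maxHeartbeats 1000000

universe u

open TensorProduct CategoryTheory

noncomputable section

namespace Groth.Agent.FibPdOpen

variable {A B : Type u} [CommRing A] [CommRing B] [Algebra A B]

/-- The stalk of a ring. -/
abbrev St (P : PrimeSpectrum B) : Type u := Localization.AtPrime P.asIdeal

/-- The ideal of the fibre in the stalk. -/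
abbrev fibIdeal (A : Type u) [CommRing A] [Algebra A B] (P : PrimeSpectrum B) : Ideal (St P) :=
  (P.asIdeal.under A).map (algebraMap A (Localization.AtPrime P.asIdeal))

/-- The stalk of the fibre. -/
abbrev Q (A : Type u) [CommRing A] [Algebra A B] (P : PrimeSpectrum B) : Type u := St P ⧸ fibIdeal A P

lemma fibIdeal_le (P : PrimeSpectrum B) : fibIdeal A P ≤ IsLocalRing.maximalIdeal (St P) := by
  rw [fibIdeal, Ideal.map_le_iff_le_comap, IsScalarTower.algebraMap_eq A B (St P), ← Ideal.comap_comap]
  exact Ideal.comap_mono (le_of_eq (IsLocalization.AtPrime.under_maximalIdeal (St P) P.asIdeal).symm)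

instance isLocalRing_Q (P : PrimeSpectrum B) : IsLocalRing (Q A P) :=
  haveI : Nontrivial (Q A P) := Ideal.Quotient.nontrivial_iff.2
    fun e => (IsLocalRing.maximalIdeal.isMaximal (St P)).ne_top (top_le_iff.1 (e ▸ fibIdeal_le P))
  IsLocalRing.of_surjective' (Ideal.Quotient.mk _) Ideal.Quotient.mk_surjective

/-- The fibre of the stalk of a module. -/
abbrev fibSt (A : Type u) [CommRing A] [Algebra A B] (P : PrimeSpectrum B) (X : ModuleCat.{u} B) : ModuleCat.{u} (Q A P) :=
  ModuleCat.of _ (Q A P ⊗[B] X)

theorem flat_stalk (P : PrimeSpectrum B) (M : Type u) [AddCommGroup M] [Module B M] [Module A M]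
    [IsScalarTower A B M] [Module.Flat A M] : Module.Flat A (St P ⊗[B] M) :=
  haveI : Module.Flat B (St P) := IsLocalization.flat (St P) P.asIdeal.primeCompl
  FlatRes.flat_tensor

/-- An exact sequence with flat end stays exact on fibre stalks. -/
theorem injective_fib (P : PrimeSpectrum B) {K N X : Type u} [AddCommGroup K] [Module B K] [AddCommGroup N]
    [Module B N] [AddCommGroup X] [Module B X] [Module A X] [IsScalarTower A B X] [Module.Flat A X]
    (f : K →ₗ[B] N) (g : N →ₗ[B] X) (hf : Function.Injective f) (hg : Function.Surjective g)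
    (hfg : Function.Exact f g) : Function.Injective (f.lTensor (Q A P)) := by
  haveI : Module.Flat B (St P) := IsLocalization.flat (St P) P.asIdeal.primeCompl
  let S := St P
  let 𝔞 := fibIdeal A P
  haveI := flat_stalk (A := A) P X
  let fS := f.baseChange S
  let gS := g.baseChange S
  have hfS : Function.Injective fS := Module.Flat.lTensor_preserves_injective_linearMap (M := S) f hf
  have hgS : Function.Surjective gS := LinearMap.lTensor_surjective S hg
  have hexS : Function.Exact fS gS := lTensor_exact S hfg hg
  let mk : S →ₗ[B] Q A P := (Ideal.Quotient.mkₐ B 𝔞).toLinearMap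
  rw [injective_iff_map_eq_zero]
  intro z hz
  obtain ⟨x, rfl⟩ := LinearMap.rTensor_surjective K (g := mk) Ideal.Quotient.mk_surjective z
  have hker : ∀ (Z : Type u) [AddCommGroup Z] [Module B Z] (w : S ⊗[B] Z),
      mk.rTensor Z w = 0 ↔ w ∈ 𝔞 • (⊤ : Submodule S (S ⊗[B] Z)) := fun Z _ _ w => by
    have hex : Function.Exact ((𝔞.restrictScalars B).subtype) mk := fun s =>
      ⟨fun hs => ⟨⟨s, Ideal.Quotient.eq_zero_iff_mem.1 hs⟩, rfl⟩,
        fun ⟨t, ht⟩ => ht ▸ Ideal.Quotient.eq_zero_iff_mem.2 t.2⟩
    constructor
    · intro hw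
      obtain ⟨v, rfl⟩ := (rTensor_exact Z hex Ideal.Quotient.mk_surjective w).1 hw
      clear hw
      induction v with
      | zero => rw [map_zero]; exact zero_mem _
      | tmul a m =>
        have : (a : S) ⊗ₜ[B] m = (a : S) • ((1 : S) ⊗ₜ[B] m) := by rw [smul_tmul', smul_eq_mul, mul_one]
        rw [LinearMap.rTensor_tmul, Submodule.subtype_apply, this]
        exact Submodule.smul_mem_smul a.2 trivial
      | add a b ha hb => rw [map_add]; exact add_mem ha hb
    · intro hw
      refine Submodule.smul_induction_on hw (fun a ha v _ => ?_) fun a b ha hb => by rw [map_add, ha, hb, add_zero]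
      clear ‹v ∈ (⊤ : Submodule S (S ⊗[B] Z))›
      induction v with
      | zero => rw [smul_zero, map_zero]
      | tmul s m =>
        rw [smul_tmul', LinearMap.rTensor_tmul, show mk (a • s) = 0 from
          Ideal.Quotient.eq_zero_iff_mem.2 (𝔞.mul_mem_right s ha), zero_tmul]
      | add v w hv hw => rw [smul_add, map_add, hv, hw, add_zero]
  rw [hker]
  have hzero : mk.rTensor N (fS x) = 0 := by
    refine Eq.trans ?_ hz
    exact LinearMap.congr_fun ((LinearMap.rTensor_comp_lTensor (R := B) (f := mk) (g := f)).trans (LinearMap.lTensor_comp_rTensor (R := B) (f := mk) (g := f)).symm) x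
  have hN := (hker N (fS x)).1 hzero
  let p := P.asIdeal.under A
  have hA : ∀ (Z : Type u) [AddCommGroup Z] [Module S Z] [Module A Z] [IsScalarTower A S Z],
      p • (⊤ : Submodule A Z) = (𝔞 • (⊤ : Submodule S Z)).restrictScalars A := fun Z _ _ _ _ => by
    rw [Ideal.smul_restrictScalars, Submodule.restrictScalars_top]
  letI : Module A K := Module.compHom K (algebraMap A B)
  haveI : IsScalarTower A B K := IsScalarTower.of_algebraMap_smul fun _ _ => rfl
  letI : Module A N := Module.compHom N (algebraMap A B)
  haveI : IsScalarTower A B N := IsScalarTower.of_algebraMap_smul fun _ _ => rfl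
  have h1 : fS x ∈ p • (⊤ : Submodule A (S ⊗[B] N)) := by rw [hA]; exact hN
  have h2 := LocalCrit.mem_smul_of_map_mem_of_mulMap_injective (R := A) (fS.restrictScalars A) hfS
    (gS.restrictScalars A) hgS hexS p (LocalCrit.mulMap_injective p) h1
  rw [hA] at h2
  exact h2

theorem subsingleton_fib_iff (P : PrimeSpectrum B) (X : Type u) [AddCommGroup X] [Module B X] [Module.Finite B X] :
    Subsingleton (Q A P ⊗[B] X) ↔ P ∉ Module.support B X := by
  let e := AlgebraTensorModule.cancelBaseChange B (St P) (Q A P) (Q A P) X
  have h : Subsingleton (St P ⊗[B] X) ↔ P ∉ Module.support B X := by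
    rw [Module.notMem_support_iff]
    exact ((isLocalizedModule_iff_isBaseChange P.asIdeal.primeCompl (St P)
      (LocalizedModule.mkLinearMap P.asIdeal.primeCompl X)).mp inferInstance).equiv.toEquiv.subsingleton_congr
  rw [← h]
  constructor
  · intro hs
    haveI := hs
    haveI : Subsingleton ((St P ⧸ fibIdeal A P) ⊗[St P] (St P ⊗[B] X)) := e.toEquiv.subsingleton
    haveI := (quotTensorEquivQuotSMul (St P ⊗[B] X) (fibIdeal A P)).symm.toEquiv.subsingleton
    have htop : fibIdeal A P • (⊤ : Submodule (St P) (St P ⊗[B] X)) = ⊤ :=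
      Submodule.Quotient.subsingleton_iff.1 inferInstance
    have := Submodule.eq_bot_of_le_smul_of_le_jacobson_bot (fibIdeal A P) (⊤ : Submodule (St P) (St P ⊗[B] X))
      Module.Finite.fg_top (le_of_eq htop.symm)
      ((fibIdeal_le P).trans (le_of_eq (IsLocalRing.jacobson_eq_maximalIdeal (⊥ : Ideal (St P)) bot_ne_top).symm))
    exact (Submodule.subsingleton_iff (St P)).1 (subsingleton_of_top_le_bot (le_of_eq this))
  · intro hs
    haveI := hs
    exact e.symm.toEquiv.subsingleton

theorem projective_fib_iff (P : PrimeSpectrum B) (X : Type u) [AddCommGroup X] [Module B X] [Module A X]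
    [IsScalarTower A B X] [Module.Flat A X] [Module.FinitePresentation B X] :
    Module.Projective (Q A P) (Q A P ⊗[B] X) ↔ P ∈ Module.freeLocus B X := by
  let e := AlgebraTensorModule.cancelBaseChange B (St P) (Q A P) (Q A P) X
  haveI := flat_stalk (A := A) P X
  rw [Module.mem_freeLocus_iff_tensor P (St P)]
  constructor
  · intro h
    haveI : Module.Projective (Q A P) (Q A P ⊗[B] X) := h
    haveI : Module.Flat (Q A P) (Q A P ⊗[B] X) := @Module.Flat.of_projective _ _ _ _ _ h
    haveI : Module.Free (Q A P) (Q A P ⊗[B] X) := Module.free_of_flat_of_isLocalRing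
    exact FlatRes.free_of_fibre_free (A := A) (P.asIdeal.under A) (fibIdeal_le P) (Module.Free.of_equiv e.symm)
  · intro h
    haveI := h
    haveI : Module.Projective (Q A P) (Q A P ⊗[St P] (St P ⊗[B] X)) := inferInstance
    exact Module.Projective.of_equiv e

theorem isOpen_lt [Algebra.FinitePresentation A B] [Module.Flat A B] :
    ∀ (n : ℕ) (X : ModuleCat.{u} B), S5929.Good A X →
      IsOpen {P : PrimeSpectrum B | HasProjectiveDimensionLT (fibSt A P X) n} := by
  intro n
  induction n with
  | zero =>
    intro X hX
    obtain ⟨hfp, _, _, _⟩ := hX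
    have : {P : PrimeSpectrum B | HasProjectiveDimensionLT (fibSt A P X) 0} = (Module.support B X)ᶜ := by
      ext P
      rw [Set.mem_setOf_eq, hasProjectiveDimensionLT_zero_iff_isZero, ModuleCat.isZero_iff_subsingleton, Set.mem_compl_iff]
      exact subsingleton_fib_iff P X
    rw [this]
    exact (Module.isClosed_support).isOpen_compl
  | succ n ih =>
    intro X hX
    cases n with
    | zero =>
      obtain ⟨hfp, _, _, _⟩ := hX
      have : {P : PrimeSpectrum B | HasProjectiveDimensionLT (fibSt A P X) 1} = Module.freeLocus B X := by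
        ext P
        rw [Set.mem_setOf_eq, ← projective_iff_hasProjectiveDimensionLT_one, ← IsProjective.iff_projective]
        exact projective_fib_iff P X
      rw [this]
      exact Module.isOpen_freeLocus
    | succ n =>
      obtain ⟨T, hT, hT3, ⟨_, hfree⟩, hX1⟩ := S5929.exists_step A X hX
      subst hT3
      haveI := hfree
      obtain ⟨hfp, _, _, hfl⟩ := hX
      convert ih T.X₁ hX1 using 2
      ext P
      have hex : Function.Exact T.f.hom T.g.hom :=
        (ShortComplex.ShortExact.moduleCat_exact_iff_function_exact T).mp hT.exact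
      have hsurj : Function.Surjective T.g.hom := hT.moduleCat_surjective_g
      let T' : ShortComplex (ModuleCat.{u} (Q A P)) := ShortComplex.mk
        (ModuleCat.ofHom (T.f.hom.baseChange (Q A P))) (ModuleCat.ofHom (T.g.hom.baseChange (Q A P))) (by
          ext1
          rw [ModuleCat.hom_comp, ModuleCat.hom_ofHom, ModuleCat.hom_ofHom, ← LinearMap.baseChange_comp,
            ← ModuleCat.hom_comp, T.zero, ModuleCat.hom_zero, LinearMap.baseChange_zero]
          rfl)
      have hT' : T'.ShortExact :=
        { exact := (ShortComplex.moduleCat_exact_iff T').2 fun x hx =>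
            ((lTensor_exact (Q A P) hex hsurj) x).mp hx
          mono_f := (ModuleCat.mono_iff_injective _).2
            (injective_fib P T.f.hom T.g.hom hT.moduleCat_injective_f hsurj hex)
          epi_g := (ModuleCat.epi_iff_surjective _).2 (LinearMap.lTensor_surjective (Q A P) hsurj) }
      haveI : Projective T'.X₂ := (IsProjective.iff_projective _).mp inferInstance
      exact hT'.hasProjectiveDimensionLT_X₃_iff n inferInstance

end Groth.Agent.FibPdOpen
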